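import Cfsg.Agent.Lib.TCX.HSxB.C0
import Cfsg.Agent.Lib.TCX.Cert

set_option autoImplicit false
set_option maxRecDepth 100000
set_option Elab.async false

namespace Cfsg.Agent.TCX.HSxB

open Cfsg.Agent.CG

/-- The relators used. -/
noncomputable def R : List (List ℕ) := [[1,0],
  [3,2],
  [6,5],
  [5,6],
  [6,0,2,2,2,0],
  [2,3],
  [0,0,2,0,0,3],
  [1,3,3,3,1,5],
  [0,1],
  [1,3,0,2,1,3,0,2,1,3,0,2],
  [0,2,0,2,0,2,0,2,0,2,0,2,0,2,0,2],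
  [2,1,1,3,1,1],
  [1,2,2,0,2,2,2,1,2,2,0,2,2,2,1,2,2,0,2,2,2],
  [0,2,0,2,2,2,0,2,0,2,2,2,0,2,0,2,2,2,0,2,0,2,2,2],
  [2,2,2,2,2,2],
  [3,1,2,0,3,1,2,0,3,1,2,0],
  [3,3,3,3,3,3],
  [3,3,3,1,3,3,0,3,3,3,1,3,3,0,3,3,3,1,3,3,0],
  [3,1,3,1,3,1,3,1,3,1,3,1,3,1,3,1],
  [3,3,3,1,3,1,3,3,3,1,3,1,3,3,3,1,3,1,3,3,3,1,3,1],
  [3,3,0,2,2,0,3,1,3,1,2,2,1,3,3,1,2,0,2,0,3,3,0,2,2,0,3,1,3,1,2,2,1,3,3,1,2,0,2,0],
  [4,4]]

noncomputable def invL : List ℕ := [1,0,3,2,4,6,5]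

/-- How the relators used follow from the given ones. -/
noncomputable def hints : List (ℕ × Bool × List ℕ) := [(15,false,[]),
  (15,false,[]),
  (15,false,[]),
  (15,false,[]),
  (13,false,[]),
  (15,false,[]),
  (4,false,[]),
  (13,true,[]),
  (15,false,[]),
  (5,false,[]),
  (7,false,[]),
  (4,true,[]),
  (6,false,[]),
  (8,false,[]),
  (3,false,[]),
  (5,true,[]),
  (3,true,[]),
  (6,true,[]),
  (7,true,[]),
  (8,true,[]),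
  (14,false,[]),
  (15,false,[])]

theorem l0g (a : ℕ) : Glue (l0c a) := fun _ _ _ => chk_append
theorem l0f0 : l0f 0 = 0 :=
  show l0c 0 0 31 = 0 from c0
theorem l0f1 : l0f 1 = 0 :=
  show l0c 1 0 31 = 0 from c1
theorem l0f2 : l0f 2 = 0 :=
  show l0c 2 0 31 = 0 from c2
theorem l0f3 : l0f 3 = 0 :=
  show l0c 3 0 31 = 0 from c3
theorem l0f4 : l0f 4 = 0 :=
  show l0c 4 0 31 = 0 from c4
theorem l0f5 : l0f 5 = 0 :=
  show l0c 5 0 31 = 0 from c5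
theorem l0f6 : l0f 6 = 0 :=
  show l0c 6 0 31 = 0 from c6
theorem l0f7 : l0f 7 = 0 :=
  show l0c 7 0 31 = 0 from c7
theorem l0all : ∀ a, a < 8 → l0f a = 0 :=
  allz_snoc (allz_snoc (allz_snoc (allz_snoc (allz_snoc (allz_snoc (allz_snoc (allz_snoc (allz_zero _) l0f0) l0f1) l0f2) l0f3) l0f4) l0f5) l0f6) l0f7
theorem l0ru : allLt (rusChk R (nat_lit 7) l0R) 8 = true := by decide +kernel
theorem l0gm : Glue l0m := fun _ _ _ => chkM_append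
theorem l0mm : l0m 2100 2216 = 0 := c8
theorem l0_ok : Idx R [0,1,2,3,5,6] [2,3,5,6] 2100 :=
  idx_of_chk (cm := 2216) (q := 8) (d := 5) (s2 := 32) (full := 31) (f := l0f) (by decide +kernel) (by decide +kernel) (fun _ => rfl) l0all l0ru (by decide +kernel) (by decide +kernel) l0mm


end Cfsg.Agent.TCX.HSxB
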