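import Cfsg.Agent.Lib.TCX.HSxB.Defs

set_option autoImplicit false
set_option maxRecDepth 100000
set_option Elab.async false

namespace Cfsg.Agent.TCX.HSxB

theorem c0 : l0c 0 0 31 = 0 := by decide +kernel
theorem c1 : l0c 1 0 31 = 0 := by decide +kernel
theorem c2 : l0c 2 0 31 = 0 := by decide +kernel
theorem c3 : l0c 3 0 31 = 0 := by decide +kernel
theorem c4 : l0c 4 0 31 = 0 := by decide +kernel
theorem c5 : l0c 5 0 31 = 0 := by decide +kernel
theorem c6 : l0c 6 0 31 = 0 := by decide +kernel
theorem c7 : l0c 7 0 31 = 0 := by decide +kernel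
theorem c8 : l0m 2100 2216 = 0 := by decide +kernel

end Cfsg.Agent.TCX.HSxB
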