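import Cfsg.Agent.Lib.TCX.HSxB.D0

set_option autoImplicit false
set_option maxRecDepth 100000
set_option Elab.async false

namespace Cfsg.Agent.TCX.HSxB

noncomputable def l0r0 : Bt Ru := (.node (.node (.node (.node (.leaf ⟨[0,2,0,0,3],6,0⟩) (.leaf ⟨[3,1,2,0,3,1,2,0,3,1,2],15,11⟩)) (.node (.leaf ⟨[2,2,2,0,6],4,1⟩) (.leaf ⟨[3,3,3,1,3,3,0,3,3,3,1,3,3,0,3,3,3,1,3,3],17,20⟩))) (.node (.node (.leaf ⟨[1],8,0⟩) (.leaf ⟨[3,1,3,1,2,2,1,3,3,1,2,0,2,0,3,3,0,2,2,0,3,1,3,1,2,2,1,3,3,1,2,0,2,0,3,3,0,2,2],20,25⟩)) (.node (.leaf ⟨[2,1,3,0,2,1,3,0,2,1,3],9,10⟩) (.leaf ⟨[1],8,0⟩)))) (.node (.node (.node (.leaf ⟨[3,0,0,2,0],6,4⟩) (.leaf ⟨[2,0,2,0,2,0,2,0,2,0,2,0,2,0,2],10,0⟩)) (.node (.leaf ⟨[6,0,2,2,2],4,5⟩)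 (.leaf ⟨[1],8,0⟩))) (.node (.node (.leaf ⟨[0,3,0,0,2],6,3⟩) (.leaf ⟨[2,2,0,3,1,3,1,2,2,1,3,3,1,2,0,2,0,3,3,0,2,2,0,3,1,3,1,2,2,1,3,3,1,2,0,2,0,3,3],20,22⟩)) (.node (.leaf ⟨[2,0,0,3,0],6,1⟩) (.leaf ⟨[1],8,0⟩)))))
noncomputable def l0r1 : Bt Ru := (.node (.node (.node (.node (.leaf ⟨[0],0,0⟩) (.leaf ⟨[3,0,2,1,3,0,2,1,3,0,2],9,0⟩)) (.node (.leaf ⟨[1,2,1,1,3],11,4⟩) (.leaf ⟨[0],0,0⟩))) (.node (.node (.leaf ⟨[2,1,1,3,1],11,5⟩) (.leaf ⟨[2,0,2,0,3,3,0,2,2,0,3,1,3,1,2,2,1,3,3,1,2,0,2,0,3,3,0,2,2,0,3,1,3,1,2,2,1,3,3],20,35⟩)) (.node (.leaf ⟨[3,3,3,1,5],7,0⟩) (.leaf ⟨[0],0,0⟩)))) (.node (.node (.node (.leaf ⟨[3,1,1,2,1],11,2⟩) (.leaf ⟨[3,1,3,1,3,1,3,1,3,1,3,1,3,1,3],18,15⟩)) (.node (.leaf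 ⟨[5,1,3,3,3],7,4⟩) (.leaf ⟨[0],0,0⟩))) (.node (.node (.leaf ⟨[1,3,1,1,2],11,1⟩) (.leaf ⟨[3,3,1,2,0,2,0,3,3,0,2,2,0,3,1,3,1,2,2,1,3,3,1,2,0,2,0,3,3,0,2,2,0,3,1,3,1,2,2],20,32⟩)) (.node (.leaf ⟨[2,0,3,1,2,0,3,1,2,0,3],15,9⟩) (.leaf ⟨[0],0,0⟩)))))
noncomputable def l0r2 : Bt Ru := (.node (.node (.node (.node (.node (.leaf ⟨[2,0,6,0,2],4,3⟩) (.leaf ⟨[2,1,3,3,1,2,0,2,0,3,3,0,2,2,0,3,1,3,1,2,2,1,3,3,1,2,0,2,0,3,3,0,2,2,0,3,1,3,1],20,30⟩)) (.node (.leaf ⟨[0,6,0,2,2],4,4⟩) (.leaf ⟨[3],5,0⟩))) (.node (.node (.leaf ⟨[2,1,2,2,0,2,2,2,1,2,2,0,2,2,2,1,2,2,0,2],12,19⟩) (.leaf ⟨[3],5,0⟩)) (.node (.leaf ⟨[1,2,2,0,2,2,2,1,2,2,0,2,2,2,1,2,2,0,2,2],12,20⟩) (.leaf ⟨[3],5,0⟩)))) (.node (.node (.node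 (.leaf ⟨[1,3,0,2,1,3,0,2,1,3,0],9,11⟩) (.leaf ⟨[0,3,3,0,2,2,0,3,1,3,1,2,2,1,3,3,1,2,0,2,0,3,3,0,2,2,0,3,1,3,1,2,2,1,3,3,1,2,0],20,38⟩)) (.node (.leaf ⟨[0,2,2,2,0,2,0,2,2,2,0,2,0,2,2,2,0,2,0,2,2,2,0],13,19⟩) (.leaf ⟨[3],5,0⟩))) (.node (.node (.leaf ⟨[2,2,2,2,2],14,0⟩) (.leaf ⟨[3],5,0⟩)) (.node (.leaf ⟨[0,2,2,2,1,2,2,0,2,2,2,1,2,2,0,2,2,2,1,2],12,16⟩) (.leaf ⟨[3],5,0⟩))))) (.node (.node (.node (.node (.leaf ⟨[3],5,0⟩) (.leaf ⟨[1,1,3,1,1],11,0⟩)) (.node (.leaf ⟨[2,2,1,2,2,0,2,2,2,1,2,2,0,2,2,2,1,2,2,0],12,18⟩) (.leaf ⟨[3],5,0⟩))) (.node (.node (.leaf ⟨[2,0,2,0,2,2,2,0,2,0,2,2,2,0,2,0,2,2,2,0,2,0,2],13,22⟩) (.leaf ⟨[3],5,0⟩)) (.node (.leaf ⟨[2,0,2,2,2,1,2,2,0,2,2,2,1,2,2,0,2,2,2,1],12,15⟩)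 (.leaf ⟨[3],5,0⟩)))) (.node (.node (.node (.leaf ⟨[0,2,0,2,0,2,0,2,0,2,0,2,0,2,0],10,15⟩) (.leaf ⟨[3],5,0⟩)) (.node (.leaf ⟨[2,2,0,2,0,2,2,2,0,2,0,2,2,2,0,2,0,2,2,2,0,2,0],13,21⟩) (.leaf ⟨[3],5,0⟩))) (.node (.node (.leaf ⟨[0,3,1,2,0,3,1,2,0,3,1],15,10⟩) (.leaf ⟨[3],5,0⟩)) (.node (.leaf ⟨[0,0,3,0,0],6,2⟩) (.leaf ⟨[3],5,0⟩))))))
noncomputable def l0r3 : Bt Ru := (.node (.node (.node (.node (.node (.leaf ⟨[2],1,0⟩) (.leaf ⟨[3,0,2,2,0,3,1,3,1,2,2,1,3,3,1,2,0,2,0,3,3,0,2,2,0,3,1,3,1,2,2,1,3,3,1,2,0,2,0],20,0⟩)) (.node (.leaf ⟨[3,3,1,3,1,3,3,3,1,3,1,3,3,3,1,3,1,3,3,3,1,3,1],19,0⟩) (.leaf ⟨[2],1,0⟩))) (.node (.node (.leaf ⟨[3,0,3,3,3,1,3,3,0,3,3,3,1,3,3,0,3,3,3,1],17,18⟩) (.leaf ⟨[2],1,0⟩))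 (.node (.leaf ⟨[1,3,3,3,1,3,1,3,3,3,1,3,1,3,3,3,1,3,1,3,3,3,1],19,22⟩) (.leaf ⟨[2],1,0⟩)))) (.node (.node (.node (.leaf ⟨[0,3,3,3,1,3,3,0,3,3,3,1,3,3,0,3,3,3,1,3],17,19⟩) (.leaf ⟨[2],1,0⟩)) (.node (.leaf ⟨[0,2,1,3,0,2,1,3,0,2,1],9,9⟩) (.leaf ⟨[2],1,0⟩))) (.node (.node (.leaf ⟨[1,3,1,3,1,3,1,3,1,3,1,3,1,3,1],18,0⟩) (.leaf ⟨[2],1,0⟩)) (.node (.leaf ⟨[3,3,1,3,3,0,3,3,3,1,3,3,0,3,3,3,1,3,3,0],17,0⟩) (.leaf ⟨[2],1,0⟩))))) (.node (.node (.node (.node (.leaf ⟨[3,3,3,3,3],16,0⟩) (.leaf ⟨[1,3,1,3,3,3,1,3,1,3,3,3,1,3,1,3,3,3,1,3,1,3,3],19,20⟩)) (.node (.leaf ⟨[3,1,3,1,3,3,3,1,3,1,3,3,3,1,3,1,3,3,3,1,3,1,3],19,19⟩) (.leaf ⟨[2],1,0⟩))) (.node (.node (.leaf ⟨[1,2,0,3,1,2,0,3,1,2,0],15,0⟩)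 (.leaf ⟨[2],1,0⟩)) (.node (.leaf ⟨[1,3,3,0,3,3,3,1,3,3,0,3,3,3,1,3,3,0,3,3],17,16⟩) (.leaf ⟨[2],1,0⟩)))) (.node (.node (.node (.leaf ⟨[1,5,1,3,3],7,3⟩) (.leaf ⟨[2],1,0⟩)) (.node (.leaf ⟨[3,1,3,3,0,3,3,3,1,3,3,0,3,3,3,1,3,3,0,3],17,15⟩) (.leaf ⟨[2],1,0⟩))) (.node (.node (.leaf ⟨[3,1,5,1,3],7,2⟩) (.leaf ⟨[2],1,0⟩)) (.node (.leaf ⟨[0,0,2,0,0],6,5⟩) (.leaf ⟨[2],1,0⟩))))))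
noncomputable def l0r4 : Bt Ru := (.leaf ⟨[4],21,0⟩)
noncomputable def l0r5 : Bt Ru := (.node (.leaf ⟨[6],3,0⟩) (.leaf ⟨[1,3,3,3,1],7,5⟩))
noncomputable def l0r6 : Bt Ru := (.node (.leaf ⟨[5],2,0⟩) (.leaf ⟨[0,2,2,2,0],4,0⟩))
noncomputable def l0r7 : Bt Ru := (.node (.node (.node (.node (.node (.node (.leaf ⟨[1,3,3,0,3,3,3,1,3,3,0,3,3,3,1,3,3,0,3,3,3],17,17⟩) (.leaf ⟨[0,3,3,3,1,3,3,0,3,3,3,1,3,3,0,3,3,3,1,3,3],17,20⟩)) (.node (.leaf ⟨[1,3,0,2,1,3,0,2,1,3,0,2],9,0⟩) (.leaf ⟨[0,1],8,0⟩))) (.node (.node (.leaf ⟨[1,3,1,3,3,3,1,3,1,3,3,3,1,3,1,3,3,3,1,3,1,3,3,3],19,21⟩) (.leaf ⟨[2,0,2,0,2,2,2,0,2,0,2,2,2,0,2,0,2,2,2,0,2,0,2,2],13,23⟩)) (.node (.leaf ⟨[0,2,0,2,0,2,0,2,0,2,0,2,0,2,0,2],10,0⟩)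 (.leaf ⟨[0,1],8,0⟩)))) (.node (.node (.node (.leaf ⟨[0,3,0,0,2,0],6,4⟩) (.leaf ⟨[0,2,2,2,0,2,0,2,2,2,0,2,0,2,2,2,0,2,0,2,2,2,0,2],13,20⟩)) (.node (.leaf ⟨[3,1,3,1,3,1,3,1,3,1,3,1,3,1,3,1],18,0⟩) (.leaf ⟨[0,1],8,0⟩))) (.node (.node (.leaf ⟨[1,2,2,0,2,2,2,1,2,2,0,2,2,2,1,2,2,0,2,2,2],12,0⟩) (.leaf ⟨[0,1],8,0⟩)) (.node (.leaf ⟨[3,1,3,3,0,3,3,3,1,3,3,0,3,3,3,1,3,3,0,3,3],17,16⟩) (.leaf ⟨[0,1],8,0⟩))))) (.node (.node (.node (.node (.leaf ⟨[1,3,1,1,2,1],11,2⟩) (.leaf ⟨[2,1,3,0,2,1,3,0,2,1,3,0],9,11⟩)) (.node (.leaf ⟨[2,0,2,0,2,0,2,0,2,0,2,0,2,0,2,0],10,15⟩) (.leaf ⟨[0,1],8,0⟩))) (.node (.node (.leaf ⟨[0,2,2,2,1,2,2,0,2,2,2,1,2,2,0,2,2,2,1,2,2],12,17⟩) (.leaf ⟨[0,1],8,0⟩)) (.node (.leaf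 ⟨[2,0,3,1,2,0,3,1,2,0,3,1],15,10⟩) (.leaf ⟨[0,1],8,0⟩)))) (.node (.node (.node (.leaf ⟨[6,0,2,2,2,0],4,0⟩) (.leaf ⟨[1,3,3,3,1,5],7,0⟩)) (.node (.leaf ⟨[0,2,1,3,0,2,1,3,0,2,1,3],9,10⟩) (.leaf ⟨[0,1],8,0⟩))) (.node (.node (.leaf ⟨[3,3,1,3,1,3,3,3,1,3,1,3,3,3,1,3,1,3,3,3,1,3,1,3],19,19⟩) (.leaf ⟨[0,1],8,0⟩)) (.node (.leaf ⟨[2,1,2,2,0,2,2,2,1,2,2,0,2,2,2,1,2,2,0,2,2],12,20⟩) (.leaf ⟨[0,1],8,0⟩)))))) (.node (.node (.node (.node (.node (.leaf ⟨[2,2,2,2,2,2],14,0⟩) (.leaf ⟨[2,2,0,2,2,2,1,2,2,0,2,2,2,1,2,2,0,2,2,2,1],12,15⟩)) (.node (.leaf ⟨[3,1,2,0,3,1,2,0,3,1,2,0],15,0⟩) (.leaf ⟨[0,1],8,0⟩))) (.node (.node (.leaf ⟨[2,0,2,2,2,1,2,2,0,2,2,2,1,2,2,0,2,2,2,1,2],12,16⟩) (.leaf ⟨[0,1],8,0⟩))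 (.node (.leaf ⟨[0,2,0,2,2,2,0,2,0,2,2,2,0,2,0,2,2,2,0,2,0,2,2,2],13,0⟩) (.leaf ⟨[0,1],8,0⟩)))) (.node (.node (.node (.leaf ⟨[0,2,2,2,0,6],4,1⟩) (.leaf ⟨[0,3,3,0,2,2,0,3,1,3,1,2,2,1,3,3,1,2,0,2,0,3,3,0,2,2,0,3,1,3,1,2,2,1,3,3,1,2,0,2],20,39⟩)) (.node (.leaf ⟨[2,2,1,2,2,0,2,2,2,1,2,2,0,2,2,2,1,2,2,0,2],12,19⟩) (.leaf ⟨[0,1],8,0⟩))) (.node (.node (.leaf ⟨[3,0,2,1,3,0,2,1,3,0,2,1],9,9⟩) (.leaf ⟨[0,1],8,0⟩)) (.node (.leaf ⟨[2,2,2,0,2,0,2,2,2,0,2,0,2,2,2,0,2,0,2,2,2,0,2,0],13,21⟩) (.leaf ⟨[0,1],8,0⟩))))) (.node (.node (.node (.node (.leaf ⟨[3,3,3,3,3,3],16,0⟩) (.leaf ⟨[1,3,3,3,1,3,1,3,3,3,1,3,1,3,3,3,1,3,1,3,3,3,1,3],19,23⟩)) (.node (.leaf ⟨[1,3,1,3,1,3,1,3,1,3,1,3,1,3,1,3],18,15⟩)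 (.leaf ⟨[0,1],8,0⟩))) (.node (.node (.leaf ⟨[3,0,3,3,3,1,3,3,0,3,3,3,1,3,3,0,3,3,3,1,3],17,19⟩) (.leaf ⟨[0,1],8,0⟩)) (.node (.leaf ⟨[3,3,3,1,3,1,3,3,3,1,3,1,3,3,3,1,3,1,3,3,3,1,3,1],19,0⟩) (.leaf ⟨[0,1],8,0⟩)))) (.node (.node (.node (.leaf ⟨[5,1,3,3,3,1],7,5⟩) (.leaf ⟨[0,2,0,0,3,0],6,1⟩)) (.node (.leaf ⟨[3,3,0,3,3,3,1,3,3,0,3,3,3,1,3,3,0,3,3,3,1],17,18⟩) (.leaf ⟨[0,1],8,0⟩))) (.node (.node (.leaf ⟨[1,2,1,1,3,1],11,5⟩) (.leaf ⟨[0,1],8,0⟩)) (.node (.leaf ⟨[2,0,2,2,2,0,2,0,2,2,2,0,2,0,2,2,2,0,2,0,2,2,2,0],13,19⟩) (.leaf ⟨[0,1],8,0⟩)))))))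
noncomputable def l0T : List (Bt Nat) := [l0t0, l0t1, l0t2, l0t3, (.leaf (nat_lit 0)), l0t5, l0t6, l0t7, l0t8]
noncomputable def l0R : List (Bt Ru) := [l0r0, l0r1, l0r2, l0r3, l0r4, l0r5, l0r6, l0r7]
noncomputable def l0c (a lo cnt : Nat) : Nat := chk (gT l0T (nat_lit 14)) (rT l0R) (nat_lit 14) (nat_lit 0x7ffc0) (nat_lit 0x7c000) (nat_lit 0x3fc0) (nat_lit 7) (nat_lit 19) (nat_lit 8191) (nat_lit 0x80000000ffffffff) (nat_lit 43) (nat_lit 84) (nat_lit 108) (nat_lit 0x476c0) a (nfOf [0,1,2,3,5,6] 2100 a) lo cnt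
noncomputable def l0f (a : Nat) : Nat := l0c a 0 31
noncomputable def l0m (lo cnt : Nat) : Nat := chkM (gT l0T (nat_lit 14)) (nat_lit 14) (nat_lit 0x7ffc0) (nat_lit 0x7c000) (nat_lit 0x3fc0) (nat_lit 7) lo cnt

end Cfsg.Agent.TCX.HSxB
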